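import Cfsg.Agent.FischerThm.Targets
import Cfsg.Agent.Transpositions.ReflectionsModThree
import Cfsg.Agent.Forms.OrthClasses
import Cfsg.Agent.Forms.OrthDet

/-!
# The group generated by the reflections of one norm over the field with three elements

Its commutator subgroup is `Ω`, its centre consists of scalars, and the commutator subgroup of its quotient by the
centre is `PΩ`.
-/

set_option autoImplicit false

namespace CfsgLib.FischerThm.Models

open Cfsg Matrix Module CfsgLib.Spinor CfsgLib.Forms CfsgLib.Transpositions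

variable {ι : Type} [Fintype ι] [DecidableEq ι] {Q : QuadraticForm (ZMod 3) (ι → ZMod 3)} {c : ZMod 3}

/-- A matrix of an isometry sending every vector of norm `c` to a multiple of itself is scalar. -/
theorem scalar_of_pm (hQ : (QuadraticMap.polarBilin Q).Nondegenerate) (hn : 5 ≤ Fintype.card ι) (hc : c ≠ 0)
    (g : ↥(isometryGroup (ZMod 3) ⇑Q)) (hpm : ∀ v, Q v = c → mat Q g *ᵥ v = v ∨ mat Q g *ᵥ v = -v) :
    mat Q g = 1 ∨ mat Q g = -1 := by
  have h2 : (2 : ZMod 3) ≠ 0 := by decide
  set M := mat Q g with hMdef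
  have hiso : ∀ (v : ι → ZMod 3) (ε : ZMod 3), Q v = c → ε ≠ 0 → M *ᵥ v = ε • v → ∀ s, Q s = 0 →
      QuadraticMap.polar (⇑Q) v s = 0 → M *ᵥ s = ε • s := by
    intro v ε hv hε hMv s hs hvs
    have hz : QuadraticMap.polar (⇑Q) (M *ᵥ v) (M *ᵥ s) = 0 := by rw [hMdef, polar_mulVec, hvs]
    rw [hMv, QuadraticMap.polar_smul_left, smul_eq_zero] at hz
    have hvMs := hz.resolve_left hε
    rcases hpm (v + s) (by rw [QuadraticMap.map_add (⇑Q), hv, hs, hvs, add_zero, add_zero]) with h0 | h0 <;>
      rw [mulVec_add, hMv] at h0 <;> rcases zmod_three_cases ε with rfl | rfl | rfl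
    · exact absurd rfl hε
    · rw [one_smul] at h0 ⊢; exact add_left_cancel h0
    · exfalso
      have h3 : M *ᵥ s = (2 : ZMod 3) • v + s := by linear_combination (norm := module) h0
      rw [h3, QuadraticMap.polar_add_right, QuadraticMap.polar_smul_right, hvs, add_zero, polar_self',
        hv, smul_eq_mul] at hvMs
      exact mul_ne_zero h2 (mul_ne_zero h2 hc) hvMs
    · exact absurd rfl hε
    · exfalso
      have h3 : M *ᵥ s = (-2 : ZMod 3) • v + -s := by linear_combination (norm := module) h0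
      rw [h3, QuadraticMap.polar_add_right, QuadraticMap.polar_smul_right, QuadraticMap.polar_neg_right, hvs,
        neg_zero, add_zero, polar_self', hv, smul_eq_mul] at hvMs
      exact mul_ne_zero (neg_ne_zero.2 h2) (mul_ne_zero h2 hc) hvMs
    · rw [neg_one_smul] at h0 ⊢
      rw [neg_add] at h0
      exact add_left_cancel h0
  have hne : ∀ v : ι → ZMod 3, v ≠ 0 → -v ≠ v := fun v hv he => hv
    ((smul_eq_zero.1 (show (2 : ZMod 3) • v = 0 by linear_combination (norm := module) -he)).resolve_left h2)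
  -- all vectors of norm `c` have one sign
  have hsame : ∀ v w, Q v = c → Q w = c → M *ᵥ v = v → M *ᵥ w = w := by
    intro v w hv hw hMv
    by_contra hMw
    have hMw' := (hpm w hw).resolve_left hMw
    have ho : QuadraticMap.polar (⇑Q) v w = 0 := by
      have h1 := polar_mulVec Q g v w
      rw [← hMdef, hMv, hMw', QuadraticMap.polar_neg_right] at h1
      have key : ∀ a : ZMod 3, -a = a → a = 0 := by decide
      exact key _ h1
    obtain ⟨s, hs, hs0, hvs, hws⟩ := exists_orth_norm hQ hn hc 0 hv hw ho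
    have h1 := hiso v 1 hv one_ne_zero (by rw [hMv, one_smul]) s hs hvs
    rw [hiso w (-1) hw (by decide) (by rw [hMw', neg_one_smul]) s hs hws, one_smul, neg_one_smul] at h1
    exact hne s (hs0 rfl) h1
  obtain ⟨u, hu⟩ := Forms.exists_value h2 hQ (by omega) c
  obtain ⟨ε, hε⟩ : ∃ ε : ZMod 3, (ε = 1 ∨ ε = -1) ∧ ∀ v, Q v = c → M *ᵥ v = ε • v := by
    rcases hpm u hu with h0 | h0
    · exact ⟨1, Or.inl rfl, fun v hv => by rw [one_smul]; exact hsame u v hu hv h0⟩
    · refine ⟨-1, Or.inr rfl, fun v hv => ?_⟩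
      rw [neg_one_smul]
      refine (hpm v hv).resolve_left fun h1 => ?_
      have h2' := hsame v u hv hu h1
      rw [h0] at h2'
      exact hne u (fun h3 => hc (by rw [← hu, h3, QuadraticMap.map_zero])) h2'
  obtain ⟨b, -, hb⟩ := exists_orthogonal_anisotropic_basis h2 hQ
  have hspan : ∀ i, M *ᵥ b i = ε • b i := by
    intro i
    by_cases hbc : Q (b i) = c
    · exact hε.2 _ hbc
    have hbn : Q (b i) = -c := by
      have key : ∀ a x : ZMod 3, a ≠ 0 → x ≠ 0 → x ≠ a → x = -a := by decide
      exact key c _ hc (hb i) hbc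
    obtain ⟨x, hx⟩ := exists_quad_value h2 (Q.comp (perpSub Q ![b i]).subtype)
      (sep_perpSub Q hQ.1 ![b i] (by simpa [polar_self', hbn] using mul_ne_zero h2 hc))
      (by
        have := le_finrank_perpSub Q ![b i]
        have h6 : finrank (ZMod 3) (ι → ZMod 3) = Fintype.card ι := finrank_fun_zmod
        omega) (-c)
    have hpg : QuadraticMap.polar (⇑Q) (b i) (x : ι → ZMod 3) = 0 := mem_perpSub.1 x.2 0
    have hx' : Q (x : ι → ZMod 3) = -c := hx
    have key2 : ∀ a : ZMod 3, -a + -a + 0 = a := by decide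
    have h1 := hε.2 (b i + x) (by rw [QuadraticMap.map_add (⇑Q), hbn, hx', hpg, key2])
    have h2' := hε.2 (b i + -(x : ι → ZMod 3)) (by
      rw [QuadraticMap.map_add (⇑Q), hbn, QuadraticMap.map_neg, hx', QuadraticMap.polar_neg_right, hpg,
        neg_zero, key2])
    simp only [mulVec_add, mulVec_neg] at h1 h2'
    have h3 : (2 : ZMod 3) • M *ᵥ b i = (2 : ZMod 3) • ε • b i := by
      linear_combination (norm := module) h1 + h2'
    exact smul_right_injective _ h2 h3
  rcases hε.1 with rfl | rfl
  · left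
    refine toLin'.injective (b.ext fun i => ?_)
    rw [toLin'_apply, toLin'_one, LinearMap.id_apply, hspan i, one_smul]
  · right
    refine toLin'.injective (b.ext fun i => ?_)
    rw [toLin'_apply, map_neg, toLin'_one, LinearMap.neg_apply, LinearMap.id_apply, hspan i, neg_one_smul]

/-- Central elements are scalar. -/
theorem scalar_of_mem_center (hQ : (QuadraticMap.polarBilin Q).Nondegenerate) (hn : 5 ≤ Fintype.card ι)
    (hc : c ≠ 0) {z : ↥(reflectionSubgroup (⇑Q) c)} (hz : z ∈ Subgroup.center _) :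
    mat Q (z : ↥(isometryGroup (ZMod 3) ⇑Q)) = 1 ∨ mat Q (z : ↥(isometryGroup (ZMod 3) ⇑Q)) = -1 := by
  refine scalar_of_pm hQ hn hc _ fun v hv => ?_
  have hQz : Q (mat Q (z : ↥(isometryGroup (ZMod 3) ⇑Q)) *ᵥ v) = c := by rw [quad_mulVec, hv]
  have h1 : z * classRefl hc v hv * z⁻¹ = classRefl hc _ hQz :=
    Subtype.ext (conj_reflIso Q _ v (hv ▸ hc))
  rw [← Subgroup.mem_center_iff.1 hz, mul_inv_cancel_right] at h1
  rcases (commute_classRefl_iff hc hv hQz).1 (h1 ▸ Commute.refl _) with h0 | h0
  · exact absurd h1 (classRefl_ne hc hv hQz h0)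
  · exact h0

theorem index_reflSub (hQ : (QuadraticMap.polarBilin Q).Nondegenerate) (hn : 5 ≤ Fintype.card ι) (hc : c ≠ 0) :
    (reflectionSubgroup (⇑Q) c).index = 2 := by
  have h2 : (2 : ZMod 3) ≠ 0 := by decide
  have h := index_closure_class_of_dim h2 hQ (by omega) (Or.inr (by omega)) (fun h => by omega) hc
  have ht : ∀ t : ZMod 3, t ≠ 0 → t ^ 2 = 1 := by decide
  rw [reflectionSubgroup]
  convert h using 3
  ext g
  constructor
  · rintro ⟨v, hv, hg⟩
    exact ⟨v, 1, one_ne_zero, by rw [hv]; ring, hg⟩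
  · rintro ⟨v, t, ht0, hv, hg⟩
    exact ⟨v, by rw [hv, ht t ht0, mul_one], hg⟩

/-- The commutator subgroup is `Ω`. -/
theorem map_commutator_eq (hQ : (QuadraticMap.polarBilin Q).Nondegenerate) (hn : 5 ≤ Fintype.card ι)
    (hc : c ≠ 0) :
    (commutator ↥(reflectionSubgroup (⇑Q) c)).map (reflectionSubgroup (⇑Q) c).subtype =
      Omega (ZMod 3) ⇑Q := by
  set R := reflectionSubgroup (⇑Q) c
  have hR : R.index = 2 := index_reflSub hQ hn hc
  haveI : R.Normal := Subgroup.normal_of_index_eq_two hR
  refine le_antisymm ?_ ?_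
  · rw [Omega, commutator_def, commutator_def, Subgroup.map_commutator]
    exact Subgroup.commutator_mono le_top le_top
  · haveI : (commutator ↥R).Characteristic := inferInstance
    set N := (commutator ↥R).map R.subtype
    haveI : N.Normal := inferInstance
    have hi : (commutator ↥R).index ≤ 2 := (reflClass_structure hQ hn hc).2.1
    have h0 : (commutator ↥R).index ≠ 0 := Subgroup.index_ne_zero_of_finite
    have hN : Nat.card (↥(isometryGroup (ZMod 3) ⇑Q) ⧸ N) = (commutator ↥R).index * 2 := by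
      rw [← Subgroup.index_eq_card, Subgroup.index_map_subtype, hR]
    haveI : Fact (Nat.Prime 2) := ⟨Nat.prime_two⟩
    have hab : ∀ a b : ↥(isometryGroup (ZMod 3) ⇑Q) ⧸ N, a * b = b * a := by
      rcases (show (commutator ↥R).index = 1 ∨ (commutator ↥R).index = 2 by omega) with h | h
      · haveI : IsCyclic (↥(isometryGroup (ZMod 3) ⇑Q) ⧸ N) := isCyclic_of_prime_card (p := 2) (by rw [hN, h])
        letI := IsCyclic.commGroup (α := ↥(isometryGroup (ZMod 3) ⇑Q) ⧸ N)
        exact mul_comm
      · letI := IsPGroup.commGroupOfCardEqPrimeSq (p := 2)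
          (show Nat.card (↥(isometryGroup (ZMod 3) ⇑Q) ⧸ N) = 2 ^ 2 by rw [hN, h]; rfl)
        exact mul_comm
    rw [Omega, commutator_def, Subgroup.commutator_le]
    intro x _ y _
    rw [← QuotientGroup.eq_one_iff, ← QuotientGroup.mk'_apply, map_commutatorElement,
      commutatorElement_eq_one_iff_commute]
    exact hab _ _

/-- The centre of the commutator subgroup is central. -/
theorem center_commutator_le (hQ : (QuadraticMap.polarBilin Q).Nondegenerate) (hn : 5 ≤ Fintype.card ι)
    (hc : c ≠ 0) :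
    (Subgroup.center ↥(commutator ↥(reflectionSubgroup (⇑Q) c))).map (commutator _).subtype ≤
      Subgroup.center ↥(reflectionSubgroup (⇑Q) c) := by
  set R := reflectionSubgroup (⇑Q) c
  set N := (Subgroup.center ↥(commutator ↥R)).map (commutator ↥R).subtype
  haveI : N.Normal := inferInstance
  have hcomm : ∀ a ∈ N, ∀ b ∈ N, Commute a b := by
    rintro _ ⟨a, -, rfl⟩ _ ⟨b, hb, rfl⟩
    exact congrArg Subtype.val (Subgroup.mem_center_iff.1 hb a)
  intro z hz
  have key : ∀ u (hu : Q u = c), Commute z (classRefl hc u hu) := by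
    intro u hu
    set r := classRefl hc u hu
    have hrmem : r ∈ reflClass Q c := classRefl_mem hc u hu
    have hr'mem : z * r * z⁻¹ ∈ reflClass Q c := by
      show ((z : ↥(isometryGroup (ZMod 3) ⇑Q)) * reflIso Q u (hu ▸ hc) *
        (z : ↥(isometryGroup (ZMod 3) ⇑Q))⁻¹) ∈ reflectionsOfNorm (⇑Q) c
      rw [conj_reflIso]
      exact reflIso_mem hc (by rw [quad_mulVec, hu])
    have hrr : r⁻¹ = r := inv_eq_of_mul_eq_one_right
      (Subtype.ext (mat_ext Q (reflectionMatrix_mul_self Q (hu ▸ hc))))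
    set d := z * r * z⁻¹ * r with hd
    have hdN : d ∈ N := by
      have e : d = z * (r * z⁻¹ * r⁻¹) := by rw [hrr, hd]; group
      rw [e]
      exact N.mul_mem hz ((inferInstance : N.Normal).conj_mem _ (N.inv_mem hz) r)
    have hdc : d ∈ Subgroup.center ↥R := by
      have hp : ∀ p, d ^ p = 1 → (p = 2 ∨ p = 3) → d ∈ pCore p ↥R := by
        intro p hdp hp
        let T : Subgroup ↥R :=
          { carrier := {x | x ∈ N ∧ x ^ p = 1}
            one_mem' := ⟨N.one_mem, one_pow _⟩
            mul_mem' := fun {a b} ha hb => ⟨N.mul_mem ha.1 hb.1, by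
              rw [(hcomm a ha.1 b hb.1).mul_pow, ha.2, hb.2, one_mul]⟩
            inv_mem' := fun {a} ha => ⟨N.inv_mem ha.1, by rw [inv_pow, ha.2, inv_one]⟩ }
        haveI : T.Normal := ⟨fun a ha g => ⟨(inferInstance : N.Normal).conj_mem a ha.1 g, by
          rw [conj_pow, ha.2, mul_one, mul_inv_cancel]⟩⟩
        have hT : IsPGroup p T := fun x => ⟨1, Subtype.ext (by rw [pow_one]; exact x.2.2)⟩
        have hle : T ≤ pCore p ↥R := le_sSup (⟨inferInstance, hT⟩ : T.Normal ∧ IsPGroup p T)
        exact hle ⟨hdN, hdp⟩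
      rcases (reflClass_isThreeTranspositionSet (Q := Q) hc).2 _ hr'mem _ hrmem with h | h
      · exact pCore_two_le_center hQ hn hc (hp 2 h (Or.inl rfl))
      · exact pCore_three_le_center hQ hn hc (hp 3 h (Or.inr rfl))
    obtain ⟨w, hw, hw'⟩ := exists_eq_classRefl hc hr'mem
    have hd1 : mat Q (d : ↥(isometryGroup (ZMod 3) ⇑Q)) =
        reflectionMatrix (⇑Q) w * reflectionMatrix (⇑Q) u := by
      rw [hd, hw']
      rfl
    have hone : d = 1 := by
      obtain ⟨x, hx, hx0⟩ : ∃ x ∈ perpSub Q ![w, u], x ≠ 0 := by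
        refine (Submodule.ne_bot_iff _).1 fun h => ?_
        have := le_finrank_perpSub Q ![w, u]
        rw [h, finrank_bot, finrank_fun_zmod] at this
        omega
      have hxw : QuadraticMap.polar (⇑Q) w x = 0 := mem_perpSub.1 hx 0
      have hxu : QuadraticMap.polar (⇑Q) u x = 0 := mem_perpSub.1 hx 1
      refine Subtype.ext (mat_ext Q ?_)
      refine ((scalar_of_mem_center hQ hn hc hdc).resolve_right fun hneg => hx0 ?_)
      have e := congrArg (· *ᵥ x) (hd1.symm.trans hneg)
      simp only [← mulVec_mulVec, reflectionMatrix_mulVec_fix hxu, reflectionMatrix_mulVec_fix hxw,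
        neg_mulVec, one_mulVec] at e
      exact (smul_eq_zero.1 (show (2 : ZMod 3) • x = 0 by
        linear_combination (norm := module) e)).resolve_left two_ne_zero_zmod_three
    rw [hd, mul_eq_one_iff_eq_inv, hrr, mul_inv_eq_iff_eq_mul] at hone
    exact hone
  have hle : R ≤ Subgroup.centralizer ({(z : ↥(isometryGroup (ZMod 3) ⇑Q))} : Set _) := by
    refine (Subgroup.closure_le _).2 fun x hx => ?_
    obtain ⟨v, hv, rfl⟩ := exists_eq_reflIso hc hx
    exact Subgroup.mem_centralizer_singleton_iff.2 (congrArg Subtype.val (key v hv).eq.symm)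
  exact Subgroup.mem_center_iff.2 fun g => Subtype.ext (Subgroup.mem_centralizer_singleton_iff.1 (hle g.2))

theorem map_center_equiv {A B : Type*} [Group A] [Group B] (e : A ≃* B) :
    (Subgroup.center A).map e.toMonoidHom = Subgroup.center B := by
  ext y
  obtain ⟨x, rfl⟩ := e.surjective y
  rw [Subgroup.mem_map_equiv, MulEquiv.symm_apply_apply, Subgroup.mem_center_iff, Subgroup.mem_center_iff]
  refine ⟨fun h b => ?_, fun h a => e.injective ?_⟩
  · obtain ⟨a, rfl⟩ := e.surjective b
    rw [← map_mul, ← map_mul, h]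
  · rw [map_mul, map_mul, h]

/-- The commutator subgroup of the group modulo its centre is the commutator subgroup modulo its centre. -/
theorem nonempty_commQuot {A : Type*} [Group A]
    (h : (Subgroup.center ↥(commutator A)).map (commutator A).subtype ≤ Subgroup.center A) :
    Nonempty (↥(commutator (A ⧸ Subgroup.center A)) ≃* ↥(commutator A) ⧸ Subgroup.center ↥(commutator A)) := by
  set mk := QuotientGroup.mk' (Subgroup.center A)
  have hmap : (commutator A).map mk = commutator (A ⧸ Subgroup.center A) := by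
    rw [commutator_def, commutator_def, Subgroup.map_commutator,
      Subgroup.map_top_of_surjective _ (QuotientGroup.mk'_surjective _)]
  have hker : (mk.subgroupMap (commutator A)).ker = Subgroup.center ↥(commutator A) := by
    ext x
    rw [MonoidHom.mem_ker, ← Subtype.val_inj]
    show ((x : A) : A ⧸ Subgroup.center A) = 1 ↔ _
    rw [QuotientGroup.eq_one_iff]
    refine ⟨fun hx => Subgroup.mem_center_iff.2 fun y => Subtype.ext (Subgroup.mem_center_iff.1 hx y),
      fun hx => h ⟨x, hx, rfl⟩⟩
  exact ⟨((MulEquiv.subgroupCongr hmap).symm.trans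
    (QuotientGroup.quotientKerEquivOfSurjective _ (MonoidHom.subgroupMap_surjective _ _)).symm).trans
      (QuotientGroup.quotientMulEquivOfEq hker)⟩

/-- The commutator subgroup of the projective group is `PΩ`. -/
theorem nonempty_commutator_equiv (hQ : (QuadraticMap.polarBilin Q).Nondegenerate) (hn : 5 ≤ Fintype.card ι)
    (hc : c ≠ 0) :
    Nonempty (↥(commutator (↥(reflectionSubgroup (⇑Q) c) ⧸ Subgroup.center ↥(reflectionSubgroup (⇑Q) c))) ≃*
      POmega (ZMod 3) ⇑Q) := by
  obtain ⟨e⟩ := nonempty_commQuot (center_commutator_le hQ hn hc)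
  let f : ↥(commutator ↥(reflectionSubgroup (⇑Q) c)) ≃* ↥(Omega (ZMod 3) ⇑Q) :=
    ((commutator ↥(reflectionSubgroup (⇑Q) c)).equivMapOfInjective _ Subtype.val_injective).trans
      (MulEquiv.subgroupCongr (map_commutator_eq hQ hn hc))
  exact ⟨e.trans (QuotientGroup.congr _ _ f (map_center_equiv f))⟩

/-- A simple projective group is `PΩ`, and the dimension is odd. -/
theorem of_isSimpleGroup (hQ : (QuadraticMap.polarBilin Q).Nondegenerate) (hn : 5 ≤ Fintype.card ι)
    (hc : c ≠ 0)
    (hS : IsSimpleGroup (↥(reflectionSubgroup (⇑Q) c) ⧸ Subgroup.center ↥(reflectionSubgroup (⇑Q) c))) :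
    Odd (Fintype.card ι) ∧
      Nonempty ((↥(reflectionSubgroup (⇑Q) c) ⧸ Subgroup.center ↥(reflectionSubgroup (⇑Q) c)) ≃*
        POmega (ZMod 3) ⇑Q) := by
  set R := reflectionSubgroup (⇑Q) c
  haveI := hS
  have hqs : IsQuasisimple ↥(commutator ↥R) := (reflClass_structure hQ hn hc).1
  obtain ⟨e⟩ := nonempty_commQuot (center_commutator_le hQ hn hc)
  have htop : commutator (↥R ⧸ Subgroup.center ↥R) = ⊤ := by
    refine (IsSimpleGroup.eq_bot_or_eq_top_of_normal _ inferInstance).resolve_left fun h => ?_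
    haveI := hqs.2
    haveI := (MulEquiv.subgroupCongr h).toEquiv.subsingleton
    exact not_subsingleton (↥(commutator ↥R) ⧸ Subgroup.center ↥(commutator ↥R)) e.symm.toEquiv.subsingleton
  refine ⟨?_, ?_⟩
  · rw [← Nat.not_even_iff_odd]
    intro heven
    let f : ↥R →* (ZMod 3)ˣ :=
      Matrix.GeneralLinearGroup.det.comp ((isometryGroup (ZMod 3) ⇑Q).subtype.comp R.subtype)
    have hf : ∀ x : ↥R, ((f x : (ZMod 3)ˣ) : ZMod 3) = (mat Q (x : ↥(isometryGroup (ZMod 3) ⇑Q))).det :=
      fun x => rfl
    have hker : Subgroup.center ↥R ≤ f.ker := by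
      intro z hz
      refine Units.ext ?_
      rw [hf, Units.val_one]
      rcases scalar_of_mem_center hQ hn hc hz with h | h <;> rw [h]
      · exact det_one
      · rw [det_neg, det_one, heven.neg_one_pow, one_mul]
    obtain ⟨u, hu⟩ := Forms.exists_value two_ne_zero_zmod_three hQ (by omega) c
    have h1 : QuotientGroup.lift _ f hker (QuotientGroup.mk (classRefl hc u hu)) = 1 :=
      Abelianization.commutator_subset_ker _ (htop ▸ Subgroup.mem_top _)
    rw [QuotientGroup.lift_mk] at h1
    have h2 := hf (classRefl hc u hu)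
    rw [h1, Units.val_one] at h2
    have h3 : (1 : ZMod 3) = -1 := h2.trans (det_reflIso u (hu ▸ hc))
    revert h3
    decide
  · obtain ⟨g⟩ := nonempty_commutator_equiv hQ hn hc
    exact ⟨(Subgroup.topEquiv.symm.trans (MulEquiv.subgroupCongr htop.symm)).trans g⟩

end CfsgLib.FischerThm.Models
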